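import Groth.Prelude.Def_Pi1
import Groth.Prelude.Def_CurvBase
import Mathlib.AlgebraicGeometry.FunctionField
import Mathlib.AlgebraicGeometry.Morphisms.UniversallyOpen
import Mathlib.AlgebraicGeometry.PullbackCarrier
import Mathlib.FieldTheory.LinearDisjoint
import Mathlib.FieldTheory.PrimitiveElement
import Mathlib.FieldTheory.Galois.Basic
import Mathlib.FieldTheory.IsAlgClosed.AlgebraicClosure
import Mathlib.FieldTheory.Normal.Basic

/-!
Geometric irreducibility via algebraic elements of the function field.
-/

set_option autoImplicit false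
universe u
open CategoryTheory AlgebraicGeometry TensorProduct

namespace GrothLib.QsChow21

/-- If a finite Galois extension meets a field only in the base, the tensor product is a field. -/
theorem isField_tensor {k K L E : Type u} [Field k] [Field K] [Field L] [Field E]
    [Algebra k K] [Algebra k L] [Algebra k E] [Algebra K E] [IsScalarTower k K E] [IsAlgClosed E]
    [FiniteDimensional k L] [IsGalois k L] (f : L →ₐ[k] E)
    (hbot : (IsScalarTower.toAlgHom k K E).fieldRange.comap f = ⊥) : IsField (K ⊗[k] L) := by
  obtain ⟨α, hα⟩ := Field.exists_primitive_element k L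
  have hint : IsIntegral k α := IsIntegral.of_finite k α
  let pb : PowerBasis k L :=
    (IntermediateField.adjoin.powerBasis hint).map
      ((IntermediateField.equivOfEq hα).trans IntermediateField.topEquiv)
  have hgen : pb.gen = α := rfl
  let A := f.fieldRange
  let eA : L ≃ₐ[k] A := AlgEquiv.ofInjectiveField f
  have hintK : IsIntegral K (f α) := (hint.map f).tower_top
  set r := minpoly K (f α) with hr
  have hdeg : pb.dim ≤ r.natDegree := by
    have hP0 : (minpoly k α) ≠ 0 := minpoly.ne_zero hint
    have hdvd : r ∣ (minpoly k α).map (algebraMap k K) := by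
      refine minpoly.dvd _ _ ?_
      rw [Polynomial.aeval_map_algebraMap, Polynomial.aeval_algHom_apply, minpoly.aeval, map_zero]
    have hroots : ∀ a ∈ (r.map (algebraMap K E)).roots, a ∈ f.toRingHom.range := by
      intro a ha
      have hdvd' : r.map (algebraMap K E) ∣ ((minpoly k α).map (algebraMap k L)).map f.toRingHom := by
        have := Polynomial.map_dvd (algebraMap K E) hdvd
        rw [Polynomial.map_map, ← IsScalarTower.algebraMap_eq] at this
        rw [Polynomial.map_map]
        convert this using 2
        exact f.comp_algebraMap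
      have hne : ((minpoly k α).map (algebraMap k L)).map f.toRingHom ≠ 0 :=
        (Polynomial.map_ne_zero_iff f.toRingHom.injective).2
          ((Polynomial.map_ne_zero_iff (algebraMap k L).injective).2 hP0)
      have hmem := Multiset.mem_of_le (Polynomial.roots.le_of_dvd hne hdvd') ha
      rw [(Normal.splits (inferInstance : Normal k L) α).roots_map f.toRingHom] at hmem
      obtain ⟨b, -, rfl⟩ := Multiset.mem_map.1 hmem
      exact ⟨b, rfl⟩
    have hlift : r.map (algebraMap K E) ∈ Polynomial.lifts f.toRingHom :=
      (IsAlgClosed.splits _).mem_lift_of_roots_mem_range ((minpoly.monic hintK).map _) _ hroots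
    have hk : r ∈ Polynomial.lifts (algebraMap k K) := by
      rw [Polynomial.lifts_iff_coeff_lifts] at hlift ⊢
      intro n
      obtain ⟨l, hl⟩ := hlift n
      have hl' : l ∈ (IsScalarTower.toAlgHom k K E).fieldRange.comap f :=
        ⟨r.coeff n, by rw [← Polynomial.coeff_map]; exact hl.symm⟩
      rw [hbot, IntermediateField.mem_bot] at hl'
      obtain ⟨c, rfl⟩ := hl'
      refine ⟨c, (algebraMap K E).injective ?_⟩
      rw [← IsScalarTower.algebraMap_apply, ← Polynomial.coeff_map]
      exact (f.commutes c).symm.trans hl
    obtain ⟨q, hq, hqdeg, hqm⟩ := Polynomial.lifts_and_degree_eq_and_monic hk (minpoly.monic hintK)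
    have h0 : Polynomial.aeval α q = 0 := by
      have : f (Polynomial.aeval α q) = 0 := by
        rw [← Polynomial.aeval_algHom_apply, ← Polynomial.aeval_map_algebraMap K, hq, hr,
          minpoly.aeval]
      exact f.toRingHom.injective (this.trans (map_zero f).symm)
    calc pb.dim = (minpoly k α).natDegree := by rw [← hgen, pb.natDegree_minpoly]
      _ ≤ q.natDegree := Polynomial.natDegree_le_of_dvd (minpoly.dvd _ _ h0) hqm.ne_zero
      _ = r.natDegree := Polynomial.natDegree_eq_of_degree_eq hqdeg
  have hli : LinearIndependent K (A.val ∘ pb.basis.map eA.toLinearEquiv) := by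
    have := (linearIndependent_pow (K := K) (f α)).comp (Fin.castLE hdeg) (Fin.castLE_injective hdeg)
    convert this using 1
    funext i
    show f (pb.basis i) = _
    rw [pb.basis_eq_pow, map_pow, hgen]
    rfl
  have H : A.LinearDisjoint K := IntermediateField.LinearDisjoint.of_basis_left _ hli
  have : Algebra.IsAlgebraic k A := eA.isAlgebraic
  have h1 : IsField (↥A ⊗[k] K) := H.isField_of_isAlgebraic (Or.inl this)
  exact MulEquiv.isField h1 ((Algebra.TensorProduct.comm k K L).trans
    (Algebra.TensorProduct.congr eA AlgEquiv.refl)).toMulEquiv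

variable {X : Scheme.{u}} [IsIntegral X]

/-- A rational function lying in all local rings is a global section. -/
theorem exists_global (f : X.functionField)
    (h : ∀ x : X, ∃ a : X.presheaf.stalk x, algebraMap (X.presheaf.stalk x) X.functionField a = f) :
    ∃ s : Γ(X, ⊤), X.presheaf.germ ⊤ (genericPoint X) trivial s = f := by
  have h' : ∀ x : X, ∃ (U : X.Opens) (hg : genericPoint X ∈ U) (s : Γ(X, U)),
      x ∈ U ∧ X.presheaf.germ U (genericPoint X) hg s = f := by
    intro x
    obtain ⟨a, ha⟩ := h x
    obtain ⟨U, hxU, s, rfl⟩ := X.presheaf.exists_germ_eq a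
    have hg : genericPoint X ∈ U := ((genericPoint_spec X).mem_open_set_iff U.2).2 ⟨x, trivial, hxU⟩
    refine ⟨U, hg, s, hxU, ?_⟩
    rw [← ha]
    exact (X.presheaf.germ_stalkSpecializes_apply hxU
      ((genericPoint_spec X).specializes trivial) s).symm
  choose U hg s hxU hs using h'
  have hc : TopCat.Presheaf.IsCompatible X.presheaf U s := by
    intro i j
    apply germ_injective_of_isIntegral X (genericPoint X) (U := U i ⊓ U j) (show genericPoint X ∈ U i ⊓ U j from ⟨hg i, hg j⟩)
    exact (X.presheaf.germ_res_apply _ _ _ (s i)).trans ((hs i).trans ((hs j).symm.trans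
      (X.presheaf.germ_res_apply _ _ _ (s j)).symm))
  obtain ⟨t, ht, -⟩ := X.sheaf.existsUnique_gluing' U ⊤ (fun i => homOfLE le_top)
    (fun x _ => TopologicalSpace.Opens.mem_iSup.2 ⟨x, hxU x⟩) s hc
  refine ⟨t, ?_⟩
  rw [← hs (genericPoint X), ← ht (genericPoint X)]
  exact (X.presheaf.germ_res_apply (homOfLE le_top) _ _ t).symm

end GrothLib.QsChow21
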