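import Groth.Prelude.Def_W4c4chowquasisplitNorm
import Groth.Agent.Lib.BddFibre.Count
import Mathlib.FieldTheory.Galois.Basic
import Mathlib.GroupTheory.Sylow

/-!
The Chow group of the point and its norm subgroups.
-/

set_option autoImplicit false
set_option backward.isDefEq.respectTransparency false

universe u

open CategoryTheory AlgebraicGeometry

namespace GrothLib.QsChow21

variable (k : Type u) [Field k]

/-- The point. -/
noncomputable abbrev pt : ↥(Spec (CommRingCat.of k)) := IsLocalRing.closedPoint k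

theorem eq_pt (x : ↥(Spec (CommRingCat.of k))) : x = pt k := Subsingleton.elim (α := PrimeSpectrum k) _ _

/-- A cycle on the point with a given coefficient. -/
noncomputable def ptCycle (n : ℤ) : AlgebraicCycle (Spec (CommRingCat.of k)) ℤ where
  toFun _ := n
  supportWithinDomain' := Set.subset_univ _
  supportLocallyFiniteWithinDomain' _ _ := by
    haveI : Subsingleton ↥(Spec (CommRingCat.of k)) := inferInstanceAs (Subsingleton (PrimeSpectrum k))
    exact ⟨Set.univ, Filter.univ_mem, Set.toFinite _⟩

/-- The coefficient at the point. -/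
noncomputable def coeff : ↥(ChowOps.zk (Spec (CommRingCat.of k)) (fun _ => 0) 0) →+ ℤ where
  toFun c := (c : AlgebraicCycle (Spec (CommRingCat.of k)) ℤ) (pt k)
  map_zero' := rfl
  map_add' _ _ := rfl

theorem coeff_bijective : Function.Bijective (coeff k) := by
  refine ⟨fun c c' h => Subtype.ext (DFunLike.ext _ _ fun x => ?_), fun n => ?_⟩
  · rw [eq_pt k x]; exact h
  · exact ⟨⟨ptCycle k n, fun x hx => absurd rfl hx⟩, rfl⟩

theorem ratTriv_eq_bot : ChowOps.ratTriv (Spec (CommRingCat.of k)) (fun _ => 0) 0 = ⊥ := by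
  rw [ChowOps.ratTriv, AddSubgroup.closure_eq_bot_iff]
  rintro a ⟨ι, ξ, f, hδ, -, -, ha⟩
  have : IsEmpty ι := ⟨fun i => by simpa using hδ i⟩
  refine Set.mem_singleton_iff.2 (Subtype.ext (DFunLike.ext _ _ fun x => ?_))
  rw [ha x]
  exact finsum_of_isEmpty _

/-- The Chow group of the point. -/
noncomputable def chEquiv : ChowOps.CH (Spec (CommRingCat.of k)) (fun _ => 0) 0 ≃+ ℤ :=
  ((QuotientAddGroup.quotientAddEquivOfEq (ratTriv_eq_bot k)).trans QuotientAddGroup.quotientBot).trans
    (AddEquiv.ofBijective (coeff k) (coeff_bijective k))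

theorem chEquiv_cl (α : AlgebraicCycle (Spec (CommRingCat.of k)) ℤ)
    (h : α ∈ Cyc.Zk (Spec (CommRingCat.of k)) (fun _ => 0) 0) : chEquiv k (ChowOps.cl α h) = α (pt k) := rfl

variable (F : Type u) [Field F] [Algebra k F]

theorem residueDegree_eq (x : ↥(Spec (CommRingCat.of F))) :
    (Spec.map (CommRingCat.ofHom (algebraMap k F))).residueDegree x = Module.finrank k F := by
  rw [BddFibre.residueDegree_eq (K := CommRingCat.of k) _ (Field.toIsField k) x]
  let _ := ((Scheme.ΓSpecIso (CommRingCat.of k)).inv ≫ (Spec.map (CommRingCat.ofHom (algebraMap k F))).appTop ≫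
    (Spec (CommRingCat.of F)).Γevaluation x).hom.toAlgebra
  refine (Algebra.finrank_eq_of_equiv_equiv (RingEquiv.refl k)
    (RingEquiv.ofBijective _ (BddFibre.bijective_residue_point (K := CommRingCat.of F) (Field.toIsField F) x)) ?_).symm
  refine RingHom.ext fun r => ?_
  exact (congrArg ((Spec (CommRingCat.of F)).Γevaluation x)
    (ConcreteCategory.congr_hom (Scheme.ΓSpecIso_inv_naturality (CommRingCat.ofHom (algebraMap k F))) r)).symm

theorem map_apply_pt (α : AlgebraicCycle (Spec (CommRingCat.of F)) ℤ) :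
    AlgebraicCycle.map (Spec.map (CommRingCat.ofHom (algebraMap k F))) (fun _ => (0 : ℤ)) (fun _ => (0 : ℤ)) α
      (pt k) = α (pt F) * Module.finrank k F := by
  rw [AlgebraicCycle.map, Function.locallyFinsupp.map_apply]
  have hs : (Spec.map (CommRingCat.ofHom (algebraMap k F))) ⁻¹' {pt k} = {pt F} := by
    ext x
    simp [eq_pt k, eq_pt F x]
  rw [hs, finsum_mem_singleton, AlgebraicCycle.mapCoeff, if_pos rfl, residueDegree_eq]

variable (K : Type u) [Field K] [Algebra k K]

/-- The norm subgroup of the point, as a subgroup of the integers. -/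
theorem map_ptNormSubgroup :
    (QsChow.ptNormSubgroup k K).map (chEquiv k : _ →+ ℤ) = AddSubgroup.closure
      {n : ℤ | ∃ (F : IntermediateField k K), FiniteDimensional k F ∧ F ≠ ⊥ ∧ ∃ m : ℤ, n = m * Module.finrank k F} := by
  rw [QsChow.ptNormSubgroup, AddMonoidHom.map_closure]
  congr 1
  ext n
  constructor
  · rintro ⟨_, ⟨F, hF, hne, α, h, rfl⟩, rfl⟩
    exact ⟨F, hF, hne, _, (chEquiv_cl k _ h).trans (map_apply_pt k F α)⟩
  · rintro ⟨F, hF, hne, m, rfl⟩
    have h : AlgebraicCycle.map (Spec.map (CommRingCat.ofHom (algebraMap k F))) (fun _ => (0 : ℤ))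
        (fun _ => (0 : ℤ)) (ptCycle F m) ∈
          Cyc.Zk (Spec (CommRingCat.of k)) (fun _ => 0) 0 := fun x hx => absurd rfl hx
    refine ⟨_, ⟨F, hF, hne, _, h, rfl⟩, ?_⟩
    exact (chEquiv_cl k _ h).trans (map_apply_pt k F _)

/-- The degree of the fixed field of a subgroup is its index. -/
theorem finrank_fixedField (L : IntermediateField k K) [FiniteDimensional k L] [IsGalois k L]
    (H : Subgroup (L ≃ₐ[k] L)) :
    Module.finrank k (IntermediateField.lift (IntermediateField.fixedField H)) = H.index := by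
  rw [(IntermediateField.liftAlgEquiv (IntermediateField.fixedField H)).toLinearEquiv.finrank_eq.symm]
  have h1 := Module.finrank_mul_finrank k (IntermediateField.fixedField H) L
  rw [IntermediateField.finrank_fixedField_eq_card, ← IsGalois.card_aut_eq_finrank k L,
    ← Subgroup.card_mul_index H, mul_comm] at h1
  exact Nat.eq_of_mul_eq_mul_left Nat.card_pos h1

end GrothLib.QsChow21
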